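import Groth.Agent.Lib.FppfTriv22.Fun
import Groth.Agent.Lib.ModDesc12.Alg
import Mathlib.RingTheory.Spectrum.Prime.Basic

/-!
# Trivialisation of a twisted form of the ring of an affine flat cover
-/

set_option autoImplicit false
set_option linter.style.haveILetI false
set_option backward.isDefEq.respectTransparency false
set_option maxHeartbeats 1000000

universe u

open CategoryTheory CategoryTheory.Limits AlgebraicGeometry TopologicalSpace TensorProduct

noncomputable section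

namespace Groth.Agent.FppfTriv22

section Algebra

variable {R A : Type u} [CommRing R] [CommRing A] [Algebra R A]

/-- `x ⊗ y ↦ x ⊗ y ⊗ 1`. -/
def e₁₂ : A ⊗[R] A →ₐ[R] A ⊗[R] (A ⊗[R] A) :=
  Algebra.TensorProduct.map (AlgHom.id R A) Algebra.TensorProduct.includeLeft

/-- `x ⊗ y ↦ x ⊗ 1 ⊗ y`. -/
def e₁₃ : A ⊗[R] A →ₐ[R] A ⊗[R] (A ⊗[R] A) :=
  Algebra.TensorProduct.map (AlgHom.id R A) Algebra.TensorProduct.includeRight

/-- `x ⊗ y ↦ 1 ⊗ x ⊗ y`. -/
def e₂₃ : A ⊗[R] A →ₐ[R] A ⊗[R] (A ⊗[R] A) := Algebra.TensorProduct.includeRight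

theorem exists_fixed [Module.Flat R A] (u : A ⊗[R] A) (hμ : Algebra.TensorProduct.lmul' R u = 1)
    (hc : e₁₂ u * e₂₃ u = e₁₃ u) (q : Ideal A) (hq : q.IsPrime) :
    ∃ n : A, n ∉ q ∧ (n ⊗ₜ[R] (1 : A)) * u = (1 : A) ⊗ₜ[R] n := by
  let ρ : A →ₗ[A] A ⊗[R] A :=
    { toFun := fun x => (x ⊗ₜ[R] (1 : A)) * u
      map_add' := fun x y => by rw [add_tmul, add_mul]
      map_smul' := fun r x => by
        rw [RingHom.id_apply, ← smul_mul_assoc, smul_tmul'] }
  have hρ : ∀ x, ρ x = (x ⊗ₜ[R] (1 : A)) * u := fun x => rfl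
  have hm : ∀ z : A ⊗[R] A, ModDesc12.mulMap (R := R) (S := A) z = Algebra.TensorProduct.lmul' R z := fun z => by
    induction z with
    | zero => simp
    | tmul x y => simp
    | add a b ha hb => simp [ha, hb]
  have h₁ : ∀ z : A ⊗[R] A, LinearMap.lTensor A (ρ.restrictScalars R) z = e₁₂ z * e₂₃ u := fun z => by
    induction z with
    | zero => simp
    | tmul x y =>
      rw [LinearMap.lTensor_tmul, LinearMap.restrictScalars_apply, hρ]
      simp only [e₁₂, e₂₃, Algebra.TensorProduct.map_tmul, AlgHom.id_apply,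
        Algebra.TensorProduct.includeLeft_apply, Algebra.TensorProduct.includeRight_apply,
        Algebra.TensorProduct.tmul_mul_tmul, mul_one]
    | add a b ha hb => rw [map_add, map_add, ha, hb, add_mul]
  have h₂ : ∀ z : A ⊗[R] A, LinearMap.lTensor A (ModDesc12.ι (R := R) (S := A) (N := A)) z = e₁₃ z := fun z => by
    induction z with
    | zero => simp
    | tmul x y => rfl
    | add a b ha hb => rw [map_add, map_add, ha, hb]
  obtain ⟨z, hz⟩ := (ModDesc12.bijective_mult ρ (fun x => by rw [hm, hρ, map_mul, hμ, mul_one]; simp)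
    (fun x => by
      rw [h₁, h₂, hρ, map_mul, map_mul, mul_assoc, hc]
      congr 1)).2 (1 : A)
  by_contra hne
  push_neg at hne
  have hmem : ∀ z : A ⊗[R] ModDesc12.fixed ρ, ModDesc12.mult (ModDesc12.fixed ρ) z ∈ q := fun z => by
    induction z with
    | zero => simp
    | tmul s m =>
      rw [ModDesc12.mult_tmul, smul_eq_mul]
      refine q.mul_mem_left s ?_
      by_contra hm'
      exact hne m.1 hm' ((ModDesc12.mem_fixed ρ m.1).1 m.2)
    | add a b ha hb => rw [map_add]; exact q.add_mem ha hb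
  exact hq.ne_top ((Ideal.eq_top_iff_one q).2 (hz ▸ hmem z))

end Algebra

variable {X S : Scheme.{u}} {f : X ⟶ S} {V : S.Opens} (hV : IsAffineOpen V) {A : Type u} [CommRing A]
  [Algebra Γ(S, V) A]

/-- The map of the spectrum of an algebra over the ring of an affine open. -/
abbrev tau : Spec (CommRingCat.of A) ⟶ S :=
  Spec.map (CommRingCat.ofHom (algebraMap Γ(S, V) A)) ≫ hV.fromSpec

variable {ι : Type u} {U : ι → X.Opens}
  {v : ∀ i, Γ(pullback f (tau hV (A := A)), pullback.fst f (tau hV) ⁻¹ᵁ U i)ˣ}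
  (η : ∀ i j, Γ(X, U i ⊓ U j)) (hU : iSup U = ⊤)
  (hv : ∀ i j (W : (pullback f (tau hV (A := A))).Opens) (hi : W ≤ pullback.fst f (tau hV) ⁻¹ᵁ U i)
    (hj : W ≤ pullback.fst f (tau hV) ⁻¹ᵁ U j),
    M1.ores hi (v i).1 = M1.ores hj (v j).1 * (pullback.fst f (tau hV)).appLE (U i ⊓ U j) W (le_inf hi hj) (η i j))
  (hbij : ∀ (P : Scheme.{u}) (θ : P ⟶ S), Function.Bijective (pullback.snd f θ).appTop)

theorem exists_invariant [Module.Flat Γ(S, V) A] (q : Spec (CommRingCat.of A)) :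
    ∃ n : Γ(Spec (CommRingCat.of A), ⊤), q ∈ (Spec (CommRingCat.of A)).basicOpen n ∧
      ∀ {P : Scheme.{u}} (g₁ g₂ : P ⟶ Spec (CommRingCat.of A)) (h : g₁ ≫ tau hV = g₂ ≫ tau hV),
        g₂.appTop n = g₁.appTop n * coc η hU hv hbij g₁ g₂ h := by
  let R := Γ(S, V)
  let pt {B : Type u} [CommRing B] [Algebra R B] (α : A →ₐ[R] B) : Spec (CommRingCat.of B) ⟶ Spec (CommRingCat.of A) :=
    Spec.map (CommRingCat.ofHom α.toRingHom)
  have hpt : ∀ {B : Type u} [CommRing B] [Algebra R B] (α β : A →ₐ[R] B), pt α ≫ tau hV = pt β ≫ tau hV := by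
    intro B _ _ α β
    rw [← Category.assoc, ← Category.assoc, ← Spec.map_comp, ← Spec.map_comp, ← CommRingCat.ofHom_comp,
      ← CommRingCat.ofHom_comp]
    exact congrArg (fun φ => Spec.map (CommRingCat.ofHom φ) ≫ hV.fromSpec) (α.comp_algebraMap.trans β.comp_algebraMap.symm)
  let c {B : Type u} [CommRing B] [Algebra R B] (α β : A →ₐ[R] B) : B :=
    (Scheme.ΓSpecIso (CommRingCat.of B)).hom (coc η hU hv hbij (pt α) (pt β) (hpt α β))
  have c_self : ∀ {B : Type u} [CommRing B] [Algebra R B] (α : A →ₐ[R] B), c α α = 1 := by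
    intro B _ _ α
    simp only [c, coc_self, map_one]
  have c_comp : ∀ {B : Type u} [CommRing B] [Algebra R B] (α β γ : A →ₐ[R] B), c α γ = c α β * c β γ := by
    intro B _ _ α β γ
    rw [← map_mul, ← coc_comp η hU hv hbij]
  have c_map : ∀ {B C : Type u} [CommRing B] [Algebra R B] [CommRing C] [Algebra R C] (e : B →ₐ[R] C)
      (α β : A →ₐ[R] B), e (c α β) = c (e.comp α) (e.comp β) := by
    intro B C _ _ _ _ e α β
    have hw : ∀ δ : A →ₐ[R] B, Spec.map (CommRingCat.ofHom e.toRingHom) ≫ pt δ = pt (e.comp δ) := fun δ => by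
      rw [← Spec.map_comp]; rfl
    show _ = (Scheme.ΓSpecIso (CommRingCat.of C)).hom _
    rw [coc_pull η hU hv hbij (Spec.map (CommRingCat.ofHom e.toRingHom)) (pt α) (pt β) (hpt α β) (hw α) (hw β)]
    exact (ConcreteCategory.congr_hom (Scheme.ΓSpecIso_naturality (CommRingCat.ofHom e.toRingHom)) _).symm
  let iL : A →ₐ[R] A ⊗[R] A := Algebra.TensorProduct.includeLeft
  let iR : A →ₐ[R] A ⊗[R] A := Algebra.TensorProduct.includeRight
  obtain ⟨n, hn, hn'⟩ := exists_fixed (c iL iR)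
    (by
      rw [c_map, show (Algebra.TensorProduct.lmul' R).comp iL = AlgHom.id R A by ext; simp [iL],
        show (Algebra.TensorProduct.lmul' R).comp iR = AlgHom.id R A by ext; simp [iR], c_self])
    (by
      rw [c_map, c_map, c_map, show (e₂₃ : A ⊗[R] A →ₐ[R] _).comp iL = e₁₂.comp iR by ext; rfl,
        show (e₂₃ : A ⊗[R] A →ₐ[R] _).comp iR = e₁₃.comp iR by ext; rfl,
        show (e₁₃ : A ⊗[R] A →ₐ[R] _).comp iL = e₁₂.comp iL by
          ext x
          simp [e₁₂, e₁₃, iL, Algebra.TensorProduct.one_def], ← c_comp]) q.asIdeal q.isPrime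
  refine ⟨(Scheme.ΓSpecIso (CommRingCat.of A)).inv n, ?_, fun {P} g₁ g₂ h => ?_⟩
  · rw [basicOpen_eq_of_affine' (R := CommRingCat.of A)]
    simp only [Iso.inv_hom_id_apply]
    exact hn
  let n' := (Scheme.ΓSpecIso (CommRingCat.of A)).inv n
  have hB : (pt iR).appTop n' = (pt iL).appTop n' * coc η hU hv hbij (pt iL) (pt iR) (hpt iL iR) := by
    apply (Scheme.ΓSpecIso (CommRingCat.of (A ⊗[R] A))).commRingCatIsoToRingEquiv.injective
    show (Scheme.ΓSpecIso _).hom ((pt iR).appTop n') = (Scheme.ΓSpecIso _).hom (_ * _)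
    rw [map_mul]
    have hs : ∀ δ : A →ₐ[R] A ⊗[R] A, (Scheme.ΓSpecIso _).hom ((pt δ).appTop n') = δ n := fun δ => by
      have := ConcreteCategory.congr_hom (Scheme.ΓSpecIso_naturality (CommRingCat.ofHom δ.toRingHom)) n'
      refine this.trans ?_
      show δ ((Scheme.ΓSpecIso (CommRingCat.of A)).hom n') = δ n
      exact congrArg δ ((Scheme.ΓSpecIso (CommRingCat.of A)).commRingCatIsoToRingEquiv.apply_symm_apply n)
    rw [hs, hs]
    exact hn'.symm
  have hg : g₁ ≫ Spec.map (CommRingCat.ofHom (algebraMap R A)) = g₂ ≫ Spec.map (CommRingCat.ofHom (algebraMap R A)) := by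
    rw [← cancel_mono hV.fromSpec]
    simpa only [Category.assoc] using h
  let e : P ⟶ Spec (CommRingCat.of (A ⊗[R] A)) := pullback.lift g₁ g₂ hg ≫ (pullbackSpecIso R A A).hom
  have w₁ : e ≫ pt iL = g₁ := by
    show (pullback.lift g₁ g₂ hg ≫ (pullbackSpecIso R A A).hom) ≫ Spec.map (CommRingCat.ofHom Algebra.TensorProduct.includeLeftRingHom) = g₁
    rw [Category.assoc, pullbackSpecIso_hom_fst, pullback.lift_fst]
  have w₂ : e ≫ pt iR = g₂ := by
    show (pullback.lift g₁ g₂ hg ≫ (pullbackSpecIso R A A).hom) ≫ Spec.map (CommRingCat.ofHom (Algebra.TensorProduct.includeRight : A →ₐ[R] A ⊗[R] A).toRingHom) = g₂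
    rw [Category.assoc]
    erw [pullbackSpecIso_hom_snd]
    exact pullback.lift_snd _ _ _
  rw [show coc η hU hv hbij g₁ g₂ h = e.appTop (coc η hU hv hbij (pt iL) (pt iR) (hpt iL iR)) from
    coc_pull η hU hv hbij e _ _ (hpt iL iR) w₁ w₂]
  have := congrArg e.appTop hB
  rw [map_mul] at this
  have hc : ∀ (δ : Spec (CommRingCat.of (A ⊗[R] A)) ⟶ Spec (CommRingCat.of A)) (g : P ⟶ Spec (CommRingCat.of A)),
      e ≫ δ = g → e.appTop (δ.appTop n') = g.appTop n' := fun δ g w => by subst w; rfl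
  rw [hc _ _ w₁, hc _ _ w₂] at this
  exact this

end Groth.Agent.FppfTriv22

end
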