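import Groth.Agent.Lib.FnDesc19.Basic
import Mathlib

/-!
# Descent of functions on an open along a flat morphism covering it
-/

set_option autoImplicit false
set_option linter.style.haveILetI false
set_option backward.isDefEq.respectTransparency false

universe u

open CategoryTheory CategoryTheory.Limits AlgebraicGeometry TopologicalSpace

noncomputable section

namespace Groth.Agent.FppfTriv22

theorem bijective_ι_appLE {X : Scheme.{u}} (O : X.Opens) :
    Function.Bijective (O.ι.appLE O ⊤ (by simp)) := by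
  rw [show O.ι.appLE O ⊤ (by simp) = O.topIso.inv by rw [Scheme.Opens.ι_appLE]; rfl]
  exact O.topIso.symm.commRingCatIsoToRingEquiv.bijective

variable {X X' : Scheme.{u}} (r : X' ⟶ X) [Flat r] [LocallyOfFinitePresentation r] (D : X.Opens)
  (hsurj : ∀ x ∈ D, ∃ y, r y = x)

include hsurj in
/-- Functions on an open descend along a flat morphism whose image contains it. -/
theorem desc_fun : Function.Injective (r.app D) ∧ ∀ a : Γ(X', r ⁻¹ᵁ D),
    (∀ {Y : Scheme.{u}} (p q : Y ⟶ X'), p ≫ r = q ≫ r → ∀ (hp : ⊤ ≤ p ⁻¹ᵁ (r ⁻¹ᵁ D)) (hq : ⊤ ≤ q ⁻¹ᵁ (r ⁻¹ᵁ D)),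
      p.appLE _ ⊤ hp a = q.appLE _ ⊤ hq a) → ∃ z, r.app D z = a := by
  let ρ := r ∣_ D
  haveI : Surjective ρ := ⟨fun x => by
    obtain ⟨y, hy⟩ := hsurj x.1 x.2
    refine ⟨⟨y, show r y ∈ D by rw [hy]; exact x.2⟩, ?_⟩
    apply D.ι.isOpenEmbedding.injective
    rw [← Scheme.Hom.comp_apply, morphismRestrict_ι]
    exact hy⟩
  let α := (r ⁻¹ᵁ D).ι.appLE (r ⁻¹ᵁ D) ⊤ (by simp)
  let β := D.ι.appLE D ⊤ (by simp)
  have hcomm : β ≫ ρ.appTop = r.app D ≫ α := by
    rw [show ρ.appTop = ρ.appLE ⊤ ⊤ le_rfl from ρ.app_eq_appLE, r.app_eq_appLE, Scheme.Hom.appLE_comp_appLE,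
      Scheme.Hom.appLE_comp_appLE]
    simp only [ρ, morphismRestrict_ι]
  obtain ⟨hinj, hrange⟩ := FnDesc19.appTop_injective_and_range ρ (pullback.fst ρ ρ) (pullback.snd ρ ρ)
    (IsPullback.of_hasPullback _ _)
  have hcomm' : ∀ z, ρ.appTop (β z) = α (r.app D z) := fun z => ConcreteCategory.congr_hom hcomm z
  refine ⟨fun z z' h => (bijective_ι_appLE D).1 (hinj ?_), fun a ha => ?_⟩
  · show ρ.appTop (β z) = ρ.appTop (β z')
    rw [hcomm', hcomm', h]
  · have hmem : α a ∈ Set.range ρ.appTop := by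
      rw [hrange]
      have h := ha (pullback.fst ρ ρ ≫ (r ⁻¹ᵁ D).ι) (pullback.snd ρ ρ ≫ (r ⁻¹ᵁ D).ι)
        (by rw [Category.assoc, Category.assoc, ← morphismRestrict_ι]; exact pullback.condition_assoc _)
        (fun y _ => by simpa using (pullback.fst ρ ρ y).2) (fun y _ => by simpa using (pullback.snd ρ ρ y).2)
      show (pullback.fst ρ ρ).appTop (α a) = (pullback.snd ρ ρ).appTop (α a)
      rw [Scheme.Hom.comp_appLE, Scheme.Hom.comp_appLE] at h
      simp only [α, Scheme.Hom.appTop, Scheme.Hom.app_eq_appLE]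
      rw [← CommRingCat.comp_apply, ← CommRingCat.comp_apply, Scheme.Hom.appLE_comp_appLE, Scheme.Hom.appLE_comp_appLE]
      rw [Scheme.Hom.comp_appLE, Scheme.Hom.comp_appLE]
      exact h
    obtain ⟨b, hb⟩ := hmem
    obtain ⟨z, rfl⟩ := (bijective_ι_appLE D).2 b
    exact ⟨z, (bijective_ι_appLE (r ⁻¹ᵁ D)).1 ((hcomm' z).symm.trans hb)⟩

end Groth.Agent.FppfTriv22

end
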