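import Groth.Agent.Lib.FnDesc19.Basic
import Groth.Agent.Lib.PicCoc15.Basic
import Groth.Agent.Lib.ParaFDesc27.PicDescent

/-!
# Transition units of a trivialisation along a base change
-/

set_option autoImplicit false
set_option linter.style.haveILetI false
set_option backward.isDefEq.respectTransparency false
set_option maxHeartbeats 1000000

universe u

open CategoryTheory CategoryTheory.Limits AlgebraicGeometry TopologicalSpace

noncomputable section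

namespace Groth.Agent.FppfTriv22

open Groth.Agent.M1

variable {X S T : Scheme.{u}} (f : X ⟶ S) (τ : T ⟶ S)
  {ι : Type u} (U : ι → X.Opens)
  (v : ∀ i, Γ(pullback f τ, pullback.fst f τ ⁻¹ᵁ U i)ˣ)

/-- The unit `c` compares the two pullbacks of the trivialisation. -/
def E {Y : Scheme.{u}} (a b : Y ⟶ pullback f τ) (c : Γ(Y, ⊤)) : Prop :=
  ∀ (i : ι) (W : Y.Opens) (ha : W ≤ a ⁻¹ᵁ (pullback.fst f τ ⁻¹ᵁ U i)) (hb : W ≤ b ⁻¹ᵁ (pullback.fst f τ ⁻¹ᵁ U i)),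
    a.appLE _ W ha (v i).1 = ores le_top c * b.appLE _ W hb (v i).1

theorem mem_iff {Y : Scheme.{u}} {a b : Y ⟶ pullback f τ} (hab : a ≫ pullback.fst f τ = b ≫ pullback.fst f τ)
    (O : X.Opens) (y : Y) : y ∈ a ⁻¹ᵁ (pullback.fst f τ ⁻¹ᵁ O) ↔ y ∈ b ⁻¹ᵁ (pullback.fst f τ ⁻¹ᵁ O) := by
  show pullback.fst f τ (a y) ∈ O ↔ pullback.fst f τ (b y) ∈ O
  rw [← Scheme.Hom.comp_apply, ← Scheme.Hom.comp_apply, hab]

variable {f τ U v}

theorem E.self {Y : Scheme.{u}} (a : Y ⟶ pullback f τ) : E f τ U v a a 1 := fun i W ha hb => by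
  rw [map_one, one_mul]

theorem E.comp {Y : Scheme.{u}} {a b d : Y ⟶ pullback f τ} {c c' : Γ(Y, ⊤)}
    (hab : a ≫ pullback.fst f τ = b ≫ pullback.fst f τ)
    (h : E f τ U v a b c) (h' : E f τ U v b d c') : E f τ U v a d (c * c') := fun i W ha hd => by
  have hb : W ≤ b ⁻¹ᵁ (pullback.fst f τ ⁻¹ᵁ U i) := fun y hy => (mem_iff f τ hab _ y).1 (ha hy)
  rw [h i W ha hb, h' i W hb hd, map_mul, mul_assoc]

theorem E.pull {Y Y' : Scheme.{u}} {a b : Y ⟶ pullback f τ} {c : Γ(Y, ⊤)} (h : E f τ U v a b c) (e : Y' ⟶ Y)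
    {a' b' : Y' ⟶ pullback f τ} (wa : e ≫ a = a') (wb : e ≫ b = b') : E f τ U v a' b' (e.appTop c) :=
    fun i W ha hb => by
  subst wa wb
  let W₀ := a ⁻¹ᵁ (pullback.fst f τ ⁻¹ᵁ U i) ⊓ b ⁻¹ᵁ (pullback.fst f τ ⁻¹ᵁ U i)
  have hW : W ≤ e ⁻¹ᵁ W₀ := fun y hy => ⟨ha hy, hb hy⟩
  have h1 := congrArg (e.appLE W₀ W hW) (h i W₀ inf_le_left inf_le_right)
  rw [map_mul, ← CommRingCat.comp_apply, ← CommRingCat.comp_apply, ← CommRingCat.comp_apply,
    Scheme.Hom.appLE_comp_appLE, Scheme.Hom.appLE_comp_appLE] at h1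
  refine h1.trans (congrArg (· * _) ?_)
  rw [← CommRingCat.comp_apply, Scheme.Hom.map_appLE, show e.appTop = e.appLE ⊤ ⊤ le_rfl from e.app_eq_appLE]
  exact ConcreteCategory.congr_hom (Scheme.Hom.appLE_map (f := e) (U := ⊤) (V := ⊤) le_rfl (homOfLE (le_top : W ≤ ⊤)).op).symm c

variable (η : ∀ i j, Γ(X, U i ⊓ U j))
  (hU : iSup U = ⊤)
  (hv : ∀ i j (W : (pullback f τ).Opens) (hi : W ≤ pullback.fst f τ ⁻¹ᵁ U i) (hj : W ≤ pullback.fst f τ ⁻¹ᵁ U j),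
    ores hi (v i).1 = ores hj (v j).1 * (pullback.fst f τ).appLE (U i ⊓ U j) W (le_inf hi hj) (η i j))

include hU in
theorem E.unique {Y : Scheme.{u}} {a b : Y ⟶ pullback f τ} {c c' : Γ(Y, ⊤)}
    (h : E f τ U v a b c) (h' : E f τ U v a b c') (hab : a ≫ pullback.fst f τ = b ≫ pullback.fst f τ) : c = c' := by
  refine TopCat.Sheaf.eq_of_locally_eq' Y.sheaf (fun i => a ⁻¹ᵁ (pullback.fst f τ ⁻¹ᵁ U i)) ⊤
    (fun i => homOfLE le_top) (fun y _ => ?_) c c' fun i => ?_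
  · obtain ⟨i, hi⟩ := Opens.mem_iSup.1 (hU.ge (show pullback.fst f τ (a y) ∈ (⊤ : X.Opens) from trivial))
    exact Opens.mem_iSup.2 ⟨i, hi⟩
  · have hb : a ⁻¹ᵁ (pullback.fst f τ ⁻¹ᵁ U i) ≤ b ⁻¹ᵁ (pullback.fst f τ ⁻¹ᵁ U i) :=
      fun y hy => (mem_iff f τ hab _ y).1 hy
    exact ((v i).isUnit.map (b.appLE _ _ hb).hom).mul_right_cancel ((h i _ le_rfl hb).symm.trans (h' i _ le_rfl hb))

include hU hv in
theorem exists_E {Y : Scheme.{u}} (a b : Y ⟶ pullback f τ)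
    (hab : a ≫ pullback.fst f τ = b ≫ pullback.fst f τ) : ∃ c : Γ(Y, ⊤), E f τ U v a b c := by
  let W : ι → Y.Opens := fun i => a ⁻¹ᵁ (pullback.fst f τ ⁻¹ᵁ U i) ⊓ b ⁻¹ᵁ (pullback.fst f τ ⁻¹ᵁ U i)
  let av : ∀ i, Γ(Y, W i)ˣ := fun i => Units.map (a.appLE _ (W i) inf_le_left).hom.toMonoidHom (v i)
  let bv : ∀ i, Γ(Y, W i)ˣ := fun i => Units.map (b.appLE _ (W i) inf_le_right).hom.toMonoidHom (v i)
  let c : ∀ i, Γ(Y, W i) := fun i => (av i).1 * (↑(bv i)⁻¹ : Γ(Y, W i))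
  have hc : ∀ i, a.appLE _ (W i) inf_le_left (v i).1 = c i * b.appLE _ (W i) inf_le_right (v i).1 := fun i =>
    (Units.inv_mul_cancel_right (av i).1 (bv i)).symm
  have hcov : ⊤ ≤ iSup W := fun y _ => by
    obtain ⟨i, hi⟩ := Opens.mem_iSup.1 (hU.ge (show pullback.fst f τ (a y) ∈ (⊤ : X.Opens) from trivial))
    exact Opens.mem_iSup.2 ⟨i, hi, (mem_iff f τ hab _ y).1 hi⟩
  have ra : ∀ i (V : Y.Opens) (h : V ≤ W i), ores h (a.appLE _ (W i) inf_le_left (v i).1) = a.appLE _ V (h.trans inf_le_left) (v i).1 :=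
    fun i V h => ConcreteCategory.congr_hom (Scheme.Hom.appLE_map (f := a) _ (homOfLE h).op) _
  have rb : ∀ i (V : Y.Opens) (h : V ≤ W i), ores h (b.appLE _ (W i) inf_le_right (v i).1) = b.appLE _ V (h.trans inf_le_right) (v i).1 :=
    fun i V h => ConcreteCategory.congr_hom (Scheme.Hom.appLE_map (f := b) _ (homOfLE h).op) _
  have hloc : ∀ i (V : Y.Opens) (h : V ≤ W i), a.appLE _ V (h.trans inf_le_left) (v i).1 =
      ores h (c i) * b.appLE _ V (h.trans inf_le_right) (v i).1 := fun i V h => by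
    have := congrArg (ores h) (hc i)
    rw [map_mul, ra, rb] at this
    exact this
  have hcompat : ∀ i j, ores (inf_le_left : W i ⊓ W j ≤ W i) (c i) = ores (inf_le_right : W i ⊓ W j ≤ W j) (c j) := fun i j => by
    let Z := pullback.fst f τ ⁻¹ᵁ U i ⊓ pullback.fst f τ ⁻¹ᵁ U j
    let V := W i ⊓ W j
    have hva : V ≤ a ⁻¹ᵁ Z := fun y hy => ⟨hy.1.1, hy.2.1⟩
    have hvb : V ≤ b ⁻¹ᵁ Z := fun y hy => ⟨hy.1.2, hy.2.2⟩
    have key : ∀ (d : Y ⟶ pullback f τ) (hd : V ≤ d ⁻¹ᵁ Z),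
        d.appLE _ V (hd.trans (d.preimage_mono inf_le_left)) (v i).1 =
          d.appLE _ V (hd.trans (d.preimage_mono inf_le_right)) (v j).1 *
            (d ≫ pullback.fst f τ).appLE (U i ⊓ U j) V hd (η i j) := fun d hd => by
      have := congrArg (d.appLE Z V hd) (hv i j Z inf_le_left inf_le_right)
      rw [map_mul, ← CommRingCat.comp_apply, ← CommRingCat.comp_apply, ← CommRingCat.comp_apply,
        Scheme.Hom.map_appLE, Scheme.Hom.map_appLE, Scheme.Hom.appLE_comp_appLE] at this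
      exact this
    have e₁ := key a hva
    have e₂ := key b hvb
    have hη : (a ≫ pullback.fst f τ).appLE (U i ⊓ U j) V hva (η i j) =
        (b ≫ pullback.fst f τ).appLE (U i ⊓ U j) V hvb (η i j) := by
      simp only [hab]
    rw [hη, hloc i V inf_le_left, hloc j V inf_le_right, mul_assoc, ← e₂] at e₁
    exact ((v i).isUnit.map (b.appLE _ V (hvb.trans (b.preimage_mono inf_le_left))).hom).mul_right_cancel e₁
  obtain ⟨C, hC, -⟩ := Y.sheaf.existsUnique_gluing' W ⊤ (fun i => homOfLE le_top) hcov c hcompat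
  refine ⟨C, fun i V ha hb => ?_⟩
  have hC' : ores le_top (C : Γ(Y, ⊤)) = c i := hC i
  rw [hloc i V (le_inf ha hb), ← hC', ores_ores]

/-- The map to the base change induced by a map to `T`. -/
def lm {P : Scheme.{u}} (g : P ⟶ T) (θ : P ⟶ S) (h : g ≫ τ = θ) : pullback f θ ⟶ pullback f τ :=
  pullback.lift (pullback.fst f θ) (pullback.snd f θ ≫ g) (by rw [Category.assoc, h, pullback.condition])

variable (hbij : ∀ (P : Scheme.{u}) (θ : P ⟶ S), Function.Bijective (pullback.snd f θ).appTop)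

include hU hv hbij in
theorem existsUnique_cocycle {P : Scheme.{u}} (g₁ g₂ : P ⟶ T) (h : g₁ ≫ τ = g₂ ≫ τ) :
    ∃! c : Γ(P, ⊤), E f τ U v (lm g₁ _ rfl) (lm g₂ (g₁ ≫ τ) h.symm) ((pullback.snd f (g₁ ≫ τ)).appTop c) := by
  have hab : lm g₁ _ rfl ≫ pullback.fst f τ = lm g₂ (g₁ ≫ τ) h.symm ≫ pullback.fst f τ := by
    simp [lm]
  obtain ⟨c', hc'⟩ := exists_E η hU hv (lm g₁ _ rfl) (lm g₂ (g₁ ≫ τ) h.symm) hab
  obtain ⟨c, rfl⟩ := (hbij P (g₁ ≫ τ)).2 c'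
  exact ⟨c, hc', fun d hd => (hbij P (g₁ ≫ τ)).1 (E.unique hU hd hc' hab)⟩

/-- The transition unit of two points of `T` over the same point of `S`. -/
def coc {P : Scheme.{u}} (g₁ g₂ : P ⟶ T) (h : g₁ ≫ τ = g₂ ≫ τ) : Γ(P, ⊤) :=
  (existsUnique_cocycle η hU hv hbij g₁ g₂ h).choose

theorem E_coc {P : Scheme.{u}} (g₁ g₂ : P ⟶ T) (h : g₁ ≫ τ = g₂ ≫ τ) :
    E f τ U v (lm g₁ _ rfl) (lm g₂ (g₁ ≫ τ) h.symm) ((pullback.snd f (g₁ ≫ τ)).appTop (coc η hU hv hbij g₁ g₂ h)) :=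
  (existsUnique_cocycle η hU hv hbij g₁ g₂ h).choose_spec.1

theorem coc_eq_iff {P : Scheme.{u}} (g₁ g₂ : P ⟶ T) (h : g₁ ≫ τ = g₂ ≫ τ) {c : Γ(P, ⊤)}
    (hc : E f τ U v (lm g₁ _ rfl) (lm g₂ (g₁ ≫ τ) h.symm) ((pullback.snd f (g₁ ≫ τ)).appTop c)) :
    coc η hU hv hbij g₁ g₂ h = c :=
  ((existsUnique_cocycle η hU hv hbij g₁ g₂ h).choose_spec.2 c hc).symm

theorem coc_self {P : Scheme.{u}} (g : P ⟶ T) : coc η hU hv hbij g g rfl = 1 :=
  coc_eq_iff η hU hv hbij g g rfl (by rw [map_one]; exact E.self _)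

theorem coc_comp {P : Scheme.{u}} (g₁ g₂ g₃ : P ⟶ T) (h : g₁ ≫ τ = g₂ ≫ τ) (h' : g₂ ≫ τ = g₃ ≫ τ) :
    coc η hU hv hbij g₁ g₃ (h.trans h') = coc η hU hv hbij g₁ g₂ h * coc η hU hv hbij g₂ g₃ h' := by
  refine coc_eq_iff η hU hv hbij _ _ _ ?_
  rw [map_mul]
  refine E.comp (by simp [lm]) (E_coc η hU hv hbij g₁ g₂ h) ?_
  have key : ∀ (θ : P ⟶ S) (hθ : g₂ ≫ τ = θ),
      E f τ U v (lm g₂ θ hθ) (lm g₃ θ (h'.symm.trans hθ)) ((pullback.snd f θ).appTop (coc η hU hv hbij g₂ g₃ h')) := by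
    rintro θ rfl
    exact E_coc η hU hv hbij g₂ g₃ h'
  exact key (g₁ ≫ τ) h.symm

theorem coc_pull {P P' : Scheme.{u}} (e : P' ⟶ P) (g₁ g₂ : P ⟶ T) (h : g₁ ≫ τ = g₂ ≫ τ) {g₁' g₂' : P' ⟶ T}
    (w₁ : e ≫ g₁ = g₁') (w₂ : e ≫ g₂ = g₂') :
    coc η hU hv hbij g₁' g₂' (by rw [← w₁, ← w₂, Category.assoc, Category.assoc, h]) =
      e.appTop (coc η hU hv hbij g₁ g₂ h) := by
  subst w₁ w₂
  refine coc_eq_iff η hU hv hbij _ _ _ ?_
  let e' : pullback f ((e ≫ g₁) ≫ τ) ⟶ pullback f (g₁ ≫ τ) :=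
    pullback.lift (pullback.fst _ _) (pullback.snd _ _ ≫ e) (by simp [pullback.condition])
  have := (E_coc η hU hv hbij g₁ g₂ h).pull e'
    (a' := lm (e ≫ g₁) _ rfl) (b' := lm (e ≫ g₂) ((e ≫ g₁) ≫ τ) (by simp [h]))
    (by apply pullback.hom_ext <;> simp [e', lm]) (by apply pullback.hom_ext <;> simp [e', lm])
  rwa [← CommRingCat.comp_apply, ← Scheme.Hom.comp_appTop, show e' ≫ pullback.snd f _ = pullback.snd f _ ≫ e from
    pullback.lift_snd _ _ _, Scheme.Hom.comp_appTop, CommRingCat.comp_apply] at this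

/-- The transition unit of two maps to the base change with the same projection to `X`. -/
theorem E_coc_pair {Y : Scheme.{u}} (a b : Y ⟶ pullback f τ)
    (hab : a ≫ pullback.fst f τ = b ≫ pullback.fst f τ) (h : (a ≫ pullback.snd f τ) ≫ τ = (b ≫ pullback.snd f τ) ≫ τ) :
    E f τ U v a b (coc η hU hv hbij (a ≫ pullback.snd f τ) (b ≫ pullback.snd f τ) h) := by
  let θ := (a ≫ pullback.snd f τ) ≫ τ
  let e : Y ⟶ pullback f θ := pullback.lift (a ≫ pullback.fst f τ) (𝟙 Y) (by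
    simp [θ, pullback.condition])
  have := (E_coc η hU hv hbij _ _ h).pull e (a' := a) (b' := b)
    (by apply pullback.hom_ext <;> simp [e, lm, θ] <;> exact Category.id_comp _)
    (by apply pullback.hom_ext <;> simp [e, lm, θ, hab] <;> exact Category.id_comp _)
  rwa [← CommRingCat.comp_apply, ← Scheme.Hom.comp_appTop, show e ≫ pullback.snd f θ = 𝟙 Y from
    pullback.lift_snd _ _ _] at this

end Groth.Agent.FppfTriv22

end
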