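import Groth.Agent.Lib.FppfTriv22.Main
import Groth.Agent.Lib.PicH1_21.Twisted

/-!
# Invertible modules trivial fppf-locally on the base are pulled back from the base
-/

set_option autoImplicit false
set_option linter.style.haveILetI false
set_option backward.isDefEq.respectTransparency false
set_option maxHeartbeats 1000000

universe u

open CategoryTheory CategoryTheory.Limits AlgebraicGeometry TopologicalSpace

noncomputable section

namespace Groth.Agent.FppfTriv22

open Groth.Agent.M1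

variable {X S : Scheme.{u}} (f : X ⟶ S) (happ : ∀ O : S.Opens, Function.Bijective (f.app O))

include happ in
theorem exists_pullback_of_local {L : X.Modules} (hL : PicF.IsInvertible L)
    (hloc : ∀ p : S, ∃ (W : S.Opens) (s : Γ(L, f ⁻¹ᵁ W)), p ∈ W ∧ Twist.IsGen L (f ⁻¹ᵁ W) s) :
    ∃ N : S.Modules, PicF.IsInvertible N ∧ Nonempty (L ≅ (Scheme.Modules.pullback f).obj N) := by
  choose W s hpW hs using hloc
  let N := (Scheme.Modules.pushforward f).obj L
  have hN : ∀ p, Twist.IsGen N (W p) (s p) := fun p V hV =>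
    ((hs p) (f ⁻¹ᵁ V) (f.preimage_mono hV)).comp (happ V)
  have hNinv : PicF.IsInvertible N :=
    Twist.isInvertible_of_local _ fun p => ⟨W p, hpW p, Twist.nonempty_restrict_iso _ _ _ (hN p)⟩
  let η := ((Scheme.Modules.pullbackPushforwardAdjunction f).homEquiv N L).symm (𝟙 N)
  haveI : IsIso η := by
    refine ParaFDesc27.isIso_of_gens η fun x => ?_
    refine ⟨f ⁻¹ᵁ W (f x), M2.pullSec f N (s (f x)), hpW (f x), (hN (f x)).pullback f, ?_⟩
    have h : η.app (f ⁻¹ᵁ W (f x)) (M2.pullSec f N (s (f x))) = s (f x) :=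
      congrArg (fun φ => φ.app (W (f x)) (s (f x)))
        (((Scheme.Modules.pullbackPushforwardAdjunction f).homEquiv_unit _ _ η).symm.trans (Equiv.apply_symm_apply _ _))
    rw [h]
    exact hs (f x)
  exact ⟨N, hNinv, ⟨(asIso η).symm⟩⟩

include happ in
theorem exists_pullback_of_fppf_trivial
    (hbij : ∀ (P : Scheme.{u}) (θ : P ⟶ S), Function.Bijective (pullback.snd f θ).appTop)
    {L : X.Modules} (hL : PicF.IsInvertible L) {S' : Scheme.{u}} (h : S' ⟶ S) [Flat h]
    [LocallyOfFinitePresentation h] [Surjective h]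
    (htriv : Nonempty ((Scheme.Modules.pullback (pullback.fst f h)).obj L ≅ Coh.structureModule _)) :
    ∃ N : S.Modules, PicF.IsInvertible N ∧ Nonempty (L ≅ (Scheme.Modules.pullback f).obj N) := by
  refine exists_pullback_of_local f happ hL fun p => ?_
  obtain ⟨V, hV, hpV, -⟩ := exists_isAffineOpen_mem_and_subset (U := (⊤ : S.Opens)) (show p ∈ (⊤ : S.Opens) from trivial)
  obtain ⟨q₀, rfl⟩ := h.surjective p
  obtain ⟨V', hV', hqV', hle⟩ := exists_isAffineOpen_mem_and_subset (U := h ⁻¹ᵁ V) (show q₀ ∈ h ⁻¹ᵁ V from hpV)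
  let φ := h.appLE V V' hle
  letI : Algebra Γ(S, V) Γ(S', V') := φ.hom.toAlgebra
  haveI : Module.Flat Γ(S, V) Γ(S', V') := HasRingHomProperty.appLE @Flat h inferInstance ⟨V, hV⟩ ⟨V', hV'⟩ hle
  have hτ : hV'.fromSpec ≫ h = tau hV (A := Γ(S', V')) :=
    (IsAffineOpen.SpecMap_appLE_fromSpec h hV hV' hle).symm
  haveI : Flat (tau hV (A := Γ(S', V'))) := hτ ▸ MorphismProperty.comp_mem @Flat _ _ inferInstance inferInstance
  haveI : LocallyOfFinitePresentation (tau hV (A := Γ(S', V'))) :=
    hτ ▸ MorphismProperty.comp_mem @LocallyOfFinitePresentation _ _ inferInstance inferInstance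
  let j : pullback f (tau hV (A := Γ(S', V'))) ⟶ pullback f h :=
    pullback.lift (pullback.fst _ _) (pullback.snd _ _ ≫ hV'.fromSpec) (by rw [Category.assoc, hτ, pullback.condition])
  obtain ⟨e⟩ := htriv
  have htriv' : Nonempty ((Scheme.Modules.pullback (pullback.fst f (tau hV (A := Γ(S', V'))))).obj L ≅
      Coh.structureModule _) :=
    ⟨(Scheme.Modules.pullbackCongr (pullback.lift_fst _ _ _ : j ≫ pullback.fst f h = _)).symm.app L ≪≫
      ((Scheme.Modules.pullbackComp j (pullback.fst f h)).app L).symm ≪≫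
      (Scheme.Modules.pullback j).mapIso e ≪≫ ((PicGrp.cl_eq_cl_iff _ _).1 (congrArg Subtype.val (PicLoc.invCl_map_unitPicSet j))).some⟩
  obtain ⟨W, s, hW, hs⟩ := exists_gen_over f hbij hL hV htriv' (hV'.primeIdealOf ⟨q₀, hqV'⟩)
  refine ⟨W, s, ?_, hs⟩
  rw [← hτ, Scheme.Hom.comp_apply] at hW
  have e' : hV'.fromSpec (hV'.primeIdealOf ⟨q₀, hqV'⟩) = q₀ := hV'.fromSpec_primeIdealOf _
  exact Set.mem_of_eq_of_mem (congrArg h e').symm hW

end Groth.Agent.FppfTriv22

end
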