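import Groth.Agent.Lib.FppfTriv22.Alg
import Groth.Agent.Lib.FppfTriv22.Desc
import Groth.Agent.Lib.PicDesc21.Frame

/-!
# Invertible modules trivial fppf-locally on the base come from the base
-/

set_option autoImplicit false
set_option linter.style.haveILetI false
set_option backward.isDefEq.respectTransparency false
set_option maxHeartbeats 1000000

universe u

open CategoryTheory CategoryTheory.Limits AlgebraicGeometry TopologicalSpace

noncomputable section

namespace Groth.Agent.FppfTriv22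

open Groth.Agent.M1

variable {X S : Scheme.{u}} (f : X ⟶ S) (hbij : ∀ (P : Scheme.{u}) (θ : P ⟶ S), Function.Bijective (pullback.snd f θ).appTop)

include hbij in
theorem exists_gen_over {L : X.Modules} (hL : PicF.IsInvertible L) {V : S.Opens} (hV : IsAffineOpen V)
    {A : Type u} [CommRing A] [Algebra Γ(S, V) A] [Module.Flat Γ(S, V) A] [Flat (tau hV (A := A))]
    [LocallyOfFinitePresentation (tau hV (A := A))]
    (htriv : Nonempty ((Scheme.Modules.pullback (pullback.fst f (tau hV (A := A)))).obj L ≅ Coh.structureModule _))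
    (q : Spec (CommRingCat.of A)) :
    ∃ (W : S.Opens) (s : Γ(L, f ⁻¹ᵁ W)), tau hV q ∈ W ∧ Twist.IsGen L (f ⁻¹ᵁ W) s := by
  let τ := tau hV (A := A)
  let r := pullback.fst f τ
  let π := pullback.snd f τ
  haveI : Flat r := MorphismProperty.pullback_fst _ _ inferInstance
  haveI : LocallyOfFinitePresentation r := MorphismProperty.pullback_fst _ _ inferInstance
  choose U s hxU hs using fun x : X => ProjUP.exists_isGen_of_invertible hL x
  have hU : iSup U = ⊤ := top_le_iff.1 fun x _ => Opens.mem_iSup.2 ⟨x, hxU x⟩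
  choose η hη using fun i j : X => ((hs j) (U i ⊓ U j) inf_le_right).2 (mres L inf_le_left (s i))
  have hcov : (⨆ i, r ⁻¹ᵁ U i) = ⊤ := by rw [← Scheme.Hom.preimage_iSup, hU, Scheme.Hom.preimage_top]
  obtain ⟨v, hv₀⟩ := (PicCoc15.nonempty_iso_iff (fun i => r ⁻¹ᵁ U i) hcov _ _ _ _ (fun i => (hs i).pullback r)
    (fun i => ParaFDesc27.isGen_one.mres le_top) (fun i j => r.app _ (η i j)) (fun _ _ => 1)
    (fun i j => by
      have e := congrArg (M2.pullSec r L) (hη i j).symm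
      rw [PicDesc21.pullSec_mres, M2.pullSec_smul, PicDesc21.pullSec_mres] at e
      exact e)
    (fun i j => by rw [one_smul, mres_mres, mres_mres])).1 htriv
  have hv : ∀ i j (W : (pullback f τ).Opens) (hi : W ≤ r ⁻¹ᵁ U i) (hj : W ≤ r ⁻¹ᵁ U j),
      ores hi (v i).1 = ores hj (v j).1 * r.appLE (U i ⊓ U j) W (le_inf hi hj) (η i j) := fun i j W hi hj => by
    have h := congrArg (ores (le_inf hi hj : W ≤ r ⁻¹ᵁ U i ⊓ r ⁻¹ᵁ U j)) (hv₀ i j)
    simp only [one_mul, map_mul, ores_ores] at h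
    refine h.trans (congrArg (_ * ·) ?_)
    rw [r.app_eq_appLE]
    exact ConcreteCategory.congr_hom (Scheme.Hom.appLE_map (f := r) (U := U i ⊓ U j) le_rfl
      (homOfLE (show W ≤ r ⁻¹ᵁ (U i ⊓ U j) from le_inf hi hj)).op) _
  obtain ⟨n, hqn, hn⟩ := exists_invariant hV η hU hv hbij q
  let Dn := (Spec (CommRingCat.of A)).basicOpen n
  let W : S.Opens := ⟨τ '' (Dn : Set _), τ.isOpenMap _ Dn.2⟩
  have hWn : τ ⁻¹ᵁ W = Dn := by
    refine le_antisymm (fun t ht => ?_) fun t ht => ⟨t, ht, rfl⟩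
    obtain ⟨t', ht', htt⟩ := ht
    obtain ⟨z, hz₁, hz₂⟩ := Scheme.Pullback.exists_preimage_pullback t' t htt
    let g₁ := pullback.fst τ τ
    let g₂ := pullback.snd τ τ
    subst hz₁ hz₂
    have key := congrArg (fun a => (pullback τ τ).basicOpen a) (hn g₁ g₂ pullback.condition)
    simp only [Scheme.basicOpen_mul] at key
    have hc : IsUnit (coc η hU hv hbij g₁ g₂ pullback.condition) :=
      IsUnit.of_mul_eq_one _ ((coc_comp η hU hv hbij g₁ g₂ g₁ pullback.condition pullback.condition.symm).symm.trans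
        (coc_self η hU hv hbij g₁))
    rw [Scheme.basicOpen_of_isUnit _ hc, inf_top_eq, ← Scheme.preimage_basicOpen_top, ← Scheme.preimage_basicOpen_top] at key
    show z ∈ g₂ ⁻¹ᵁ (Spec (CommRingCat.of A)).basicOpen n
    rw [key]
    exact ht'
  let D : X → X.Opens := fun i => U i ⊓ f ⁻¹ᵁ W
  have hD : ∀ i, r ⁻¹ᵁ D i ≤ π ⁻¹ᵁ Dn := fun i z hz => by
    show π z ∈ Dn
    rw [← hWn]
    show τ (π z) ∈ W
    rw [← Scheme.Hom.comp_apply, ← pullback.condition, Scheme.Hom.comp_apply]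
    exact hz.2
  have hsurj : ∀ i, ∀ x ∈ D i, ∃ y, r y = x := fun i x hx => by
    obtain ⟨t, -, ht⟩ := hx.2
    obtain ⟨z, hz, -⟩ := Scheme.Pullback.exists_preimage_pullback x t ht.symm
    exact ⟨z, hz⟩
  let nD : ∀ i, Γ(pullback f τ, r ⁻¹ᵁ D i)ˣ := fun i =>
    ((Spec (CommRingCat.of A)).toRingedSpace.isUnit_res_basicOpen n).unit.map
      (π.appLE Dn (r ⁻¹ᵁ D i) (hD i)).hom.toMonoidHom
  let w : ∀ i, Γ(pullback f τ, r ⁻¹ᵁ D i)ˣ := fun i =>
    Units.map (ores (r.preimage_mono (inf_le_left : D i ≤ U i))).hom.toMonoidHom (v i) * nD i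
  have hnD : ∀ i, (nD i).1 = π.appLE ⊤ (r ⁻¹ᵁ D i) le_top n := fun i => by
    show π.appLE Dn (r ⁻¹ᵁ D i) (hD i) (ores le_top n) = _
    rw [← CommRingCat.comp_apply, Scheme.Hom.map_appLE]
  have hw : ∀ i {Y : Scheme.{u}} (p p' : Y ⟶ pullback f τ), p ≫ r = p' ≫ r → ∀ (hp : ⊤ ≤ p ⁻¹ᵁ (r ⁻¹ᵁ D i))
      (hp' : ⊤ ≤ p' ⁻¹ᵁ (r ⁻¹ᵁ D i)), p.appLE _ ⊤ hp (w i).1 = p'.appLE _ ⊤ hp' (w i).1 := by
    intro i Y p p' hab hp hp'
    have hτ : (p ≫ π) ≫ τ = (p' ≫ π) ≫ τ := by
      simp only [Category.assoc, π, ← pullback.condition]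
      exact congrArg (· ≫ f) hab |> fun e => by simpa only [Category.assoc, r] using e
    have hE := E_coc_pair η hU hv hbij p p' hab hτ i ⊤ (hp.trans (p.preimage_mono (r.preimage_mono inf_le_left)))
      (hp'.trans (p'.preimage_mono (r.preimage_mono inf_le_left)))
    have hN : ∀ (a : Y ⟶ pullback f τ) (ha : ⊤ ≤ a ⁻¹ᵁ (r ⁻¹ᵁ D i)),
        a.appLE _ ⊤ ha (w i).1 =
          a.appLE _ ⊤ (ha.trans (a.preimage_mono (r.preimage_mono inf_le_left))) (v i).1 * (a ≫ π).appTop n := fun a ha => by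
      rw [Units.val_mul, map_mul, hnD]
      congr 1
      · show a.appLE _ ⊤ ha (ores (r.preimage_mono (inf_le_left : D i ≤ U i)) (v i).1) = _
        rw [← CommRingCat.comp_apply, Scheme.Hom.map_appLE]
      · rw [← CommRingCat.comp_apply, Scheme.Hom.appLE_comp_appLE, Scheme.Hom.appTop, Scheme.Hom.app_eq_appLE]
        rfl
    rw [hN p hp, hN p' hp', hE, hn (p ≫ π) (p' ≫ π) hτ]
    simp only [ores, homOfLE_refl, op_id, CategoryTheory.Functor.map_id, CommRingCat.id_apply]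
    exact ((mul_assoc _ _ _).trans (mul_left_comm _ _ _)).trans (congrArg (_ * ·) (mul_comm _ _))
  choose z hz using fun i => (desc_fun r (D i) (hsurj i)).2 (w i).1 (hw i)
  choose z' hz' using fun i => (desc_fun r (D i) (hsurj i)).2 (↑(w i)⁻¹ : Γ(pullback f τ, r ⁻¹ᵁ D i)) (fun {Y} p p' hab hp hp' =>
    congrArg Units.inv ((Units.ext (hw i p p' hab hp hp') :
      Units.map (p.appLE _ ⊤ hp).hom.toMonoidHom (w i) = Units.map (p'.appLE _ ⊤ hp').hom.toMonoidHom (w i))))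
  have hzz : ∀ i, z' i * z i = 1 := fun i => (desc_fun r (D i) (hsurj i)).1 (by
    rw [map_mul, hz, hz', map_one, Units.inv_mul])
  have hrel : ∀ i j (h₁ : D i ⊓ D j ≤ U i ⊓ U j), ores (inf_le_left : D i ⊓ D j ≤ D i) (z i) =
      ores (inf_le_right : D i ⊓ D j ≤ D j) (z j) * ores h₁ (η i j) := fun i j h₁ => by
    refine (desc_fun r (D i ⊓ D j) (fun x hx => hsurj i x hx.1)).1 ?_
    have hnat : ∀ {P Q : X.Opens} (h : Q ≤ P) (a : Γ(X, P)), r.app Q (ores h a) = ores (r.preimage_mono h) (r.app P a) :=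
      fun h a => ConcreteCategory.congr_hom (r.naturality (homOfLE h).op) a
    rw [map_mul, hnat, hnat, hnat, hz, hz, Units.val_mul, Units.val_mul, map_mul, map_mul, hnD, hnD]
    show ores _ (ores _ (v i).1) * ores _ (π.appLE ⊤ _ _ n) = ores _ (ores _ (v j).1) * ores _ (π.appLE ⊤ _ _ n) * _
    rw [ores_ores, ores_ores, hv i j _ _ (r.preimage_mono (inf_le_right.trans inf_le_left)),
      mul_right_comm]
    have hmap : ∀ k (h : r ⁻¹ᵁ (D i ⊓ D j) ≤ r ⁻¹ᵁ D k), ores h (π.appLE ⊤ (r ⁻¹ᵁ D k) le_top n) = π.appLE ⊤ _ le_top n :=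
      fun k h => ConcreteCategory.congr_hom (Scheme.Hom.appLE_map (f := π) _ (homOfLE h).op) n
    rw [hmap, hmap, r.app_eq_appLE, show ores (r.preimage_mono h₁) (r.appLE (U i ⊓ U j) (r ⁻¹ᵁ (U i ⊓ U j)) le_rfl (η i j)) =
      r.appLE (U i ⊓ U j) (r ⁻¹ᵁ (D i ⊓ D j)) (r.preimage_mono h₁) (η i j) from
      ConcreteCategory.congr_hom (Scheme.Hom.appLE_map (f := r) le_rfl (homOfLE (r.preimage_mono h₁)).op) _]
  let g : ∀ i, Γ(L, D i) := fun i => z' i • mres L inf_le_left (s i)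
  have hg : ∀ i j, mres L (inf_le_left : D i ⊓ D j ≤ D i) (g i) = mres L (inf_le_right : D i ⊓ D j ≤ D j) (g j) := fun i j => by
    have h₁ : D i ⊓ D j ≤ U i ⊓ U j := inf_le_inf inf_le_left inf_le_left
    have e := congrArg (mres L h₁) (hη i j)
    simp only [mres_smul, mres_mres] at e
    show mres L _ (z' i • mres L _ (s i)) = mres L _ (z' j • mres L _ (s j))
    rw [mres_smul, mres_smul, mres_mres, mres_mres]
    rw [← e, smul_smul]
    congr 1
    have hi := congrArg (ores (inf_le_left : D i ⊓ D j ≤ D i)) (hzz i)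
    have hj := congrArg (ores (inf_le_right : D i ⊓ D j ≤ D j)) (hzz j)
    rw [map_mul, map_one] at hi hj
    rw [hrel i j h₁] at hi
    refine (mul_one _).symm.trans ((congrArg (_ * ·) hj.symm).trans ?_)
    rw [show ∀ a b c d : Γ(X, D i ⊓ D j), a * b * (c * d) = (a * (d * b)) * c from fun a b c d => by ring, hi, one_mul]
  have hcov' : f ⁻¹ᵁ W ≤ iSup D := fun x hx => Opens.mem_iSup.2 ⟨x, hxU x, hx⟩
  obtain ⟨sW, hsW, -⟩ := TopCat.Sheaf.existsUnique_gluing' ⟨L.presheaf, L.isSheaf⟩ D (f ⁻¹ᵁ W)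
    (fun i => homOfLE inf_le_right) hcov' g hg
  refine ⟨W, sW, ⟨q, hqn, rfl⟩, Twist.isGen_of_stalk fun x hx => ?_⟩
  have hgen : Twist.IsGen L (D x) (g x) := fun V hV => by
    have hu : IsUnit (ores hV (z' x)) := (IsUnit.of_mul_eq_one _ (hzz x)).map _
    have := ((hs x).mres (inf_le_left : D x ≤ U x) V hV).comp hu.unit.mulRight.bijective
    convert this using 1
    funext t
    simp only [g, Function.comp_apply, Units.mulRight_apply, IsUnit.unit_spec, mres_smul, mul_smul]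
    rfl
  have h := hgen.stalk (show x ∈ D x from ⟨hxU x, hx⟩)
  rw [← show mres L (inf_le_right : D x ≤ f ⁻¹ᵁ W) sW = g x from hsW x, germ_mres] at h
  exact h

end Groth.Agent.FppfTriv22

end
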